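import Groth.Agent.PerfFibreLib.SplitAway
import Groth.Agent.DRingLib.AmplitudeBC
import Groth.Agent.DRingLib.PCohTop
import Groth.Agent.TwoTermLib.Amp

set_option autoImplicit false
set_option backward.isDefEq.respectTransparency false
set_option backward.isDefEq.respectTransparency.types false
universe u
open CategoryTheory CategoryTheory.Limits
open scoped TensorProduct
attribute [local instance] HasDerivedCategory.standard

namespace Groth.Agent.SplitTruncLib
open DRingLib

variable {R S : Type u} [CommRing R] [CommRing S]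

theorem extCx_d (φ : R →+* S) (Q : CochainComplex (ModuleCat.{u} R) ℤ) (i j : ℤ) :
    (((extCx φ).obj Q).d i j).hom = (letI := φ.toAlgebra; (Q.d i j).hom.baseChange S) := rfl

/-- The tensored differentials are exact at `j`. -/
def ExactBC [inst : Algebra R S] (Q : CochainComplex (ModuleCat.{u} R) ℤ) (i j k : ℤ) : Prop :=
  Function.Exact ((Q.d i j).hom.baseChange S) ((Q.d j k).hom.baseChange S)

/-- A projector onto the image of the tensored differential. -/
def SplitBC [inst : Algebra R S] (Q : CochainComplex (ModuleCat.{u} R) ℤ) (j k : ℤ) : Prop :=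
  ∃ q : S ⊗[R] (Q.X k) →ₗ[S] S ⊗[R] (Q.X k),
    (∀ x, q ((Q.d j k).hom.baseChange S x) = (Q.d j k).hom.baseChange S x) ∧
      ∀ y, q y ∈ LinearMap.range ((Q.d j k).hom.baseChange S)

theorem toAlgebra_eq [inst : Algebra R S] : (algebraMap R S).toAlgebra = inst :=
  Algebra.algebra_ext _ _ fun _ => rfl

theorem isZero_iff_exactBC [inst : Algebra R S] (Q : CochainComplex (ModuleCat.{u} R) ℤ) (i j k : ℤ)
    (hij : i + 1 = j) (hjk : j + 1 = k) :
    IsZero (((extCx (algebraMap R S)).obj Q).homology j) ↔ ExactBC (S := S) Q i j k := by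
  rw [← congrArg (fun a : Algebra R S => ExactBC (inst := a) Q i j k) (toAlgebra_eq (R := R) (S := S)),
    KFlatLib.isZero_homology_iff_exists _ i j k hij hjk]
  exact ⟨fun h z => ⟨h z, fun ⟨y, hy⟩ => hy ▸ LinearMap.congr_fun
      (congrArg ModuleCat.Hom.hom (((extCx (algebraMap R S)).obj Q).d_comp_d i j k)) y⟩,
    fun h z hz => (h z).1 hz⟩

theorem projective_coker_of_splitBC [inst : Algebra R S] (Q : CochainComplex (ModuleCat.{u} R) ℤ)
    (j k : ℤ) (hk : Module.Projective S (((extCx (algebraMap R S)).obj Q).X k))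
    (h : SplitBC (S := S) Q j k) :
    Module.Projective S (TwoTermLib.CK ((extCx (algebraMap R S)).obj Q) j k) := by
  rw [← congrArg (fun a : Algebra R S => SplitBC (inst := a) Q j k) (toAlgebra_eq (R := R) (S := S))] at h
  obtain ⟨q, h₁, h₂⟩ := h
  exact TwoTermLib.projective_coker j k hk q h₁ h₂

end Groth.Agent.SplitTruncLib
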